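import Mathlib.AlgebraicGeometry.QuasiAffine
import Mathlib.AlgebraicGeometry.AffineSpace
import Mathlib.AlgebraicGeometry.Pullbacks

/-!
# An affine vector bundle torsor over a quasi-affine scheme
-/

set_option autoImplicit false
set_option backward.isDefEq.respectTransparency false
set_option linter.style.haveILetI false

universe u

open CategoryTheory CategoryTheory.Limits AlgebraicGeometry TopologicalSpace MvPolynomial

noncomputable section

namespace GrothLib.Jouanolou8

variable {A : Type u} [CommRing A] {m : ℕ} (f : Fin m → A)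

/-- The equation `∑ fᵢ xᵢ = 1`. -/
def rel : MvPolynomial (Option (Fin m)) A := ∑ i, C (f i) * X (some i) - 1

/-- The coordinate ring of the torsor. -/
abbrev Q : Type u := MvPolynomial (Option (Fin m)) A ⧸ Ideal.span {rel f}

theorem sum_mk : ∑ i, algebraMap A (Q f) (f i) * Ideal.Quotient.mk _ (X (some i)) = 1 := by
  have h : Ideal.Quotient.mk (Ideal.span {rel f}) (rel f) = 0 :=
    Ideal.Quotient.eq_zero_iff_mem.2 (Ideal.mem_span_singleton_self _)
  rw [rel, map_sub, map_one, sub_eq_zero, map_sum] at h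
  rw [← h]
  refine Finset.sum_congr rfl fun i _ => ?_
  rw [map_mul]
  rfl

theorem exists_notMem (q : PrimeSpectrum (Q f)) : ∃ i, algebraMap A (Q f) (f i) ∉ q.asIdeal := by
  by_contra! h
  exact q.isPrime.ne_top ((Ideal.eq_top_iff_one _).2
    (sum_mk f ▸ Ideal.sum_mem _ fun i _ => Ideal.mul_mem_right _ _ (h i)))

variable {B : Type u} [CommRing B] (φ : A →+* B) (b : Fin m → B)

/-- The trivialisation of the torsor over a ring where the equation has a solution. -/
theorem exists_isPushout (hb : ∑ i, φ (f i) * b i = 1) :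
    ∃ ψ : Q f →+* MvPolynomial (ULift.{u} (Fin m)) B,
      IsPushout (CommRingCat.ofHom φ) (CommRingCat.ofHom (algebraMap A (Q f)))
        (CommRingCat.ofHom (C : B →+* MvPolynomial (ULift.{u} (Fin m)) B)) (CommRingCat.ofHom ψ) := by
  let P := MvPolynomial (ULift.{u} (Fin m)) B
  let G : P := ∑ i, C (φ (f i)) * X ⟨i⟩
  let img : Option (Fin m) → P := fun o => o.elim G fun i => C (b i) + (X ⟨i⟩ - G * C (b i))
  let ψ0 : MvPolynomial (Option (Fin m)) A →+* P := eval₂Hom (C.comp φ) img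
  have hψ0 : ψ0 (rel f) = 0 := by
    have h2 : ∑ i, C (φ (f i)) * C (b i) = (1 : P) := by
      rw [← map_one C, ← hb, map_sum]
      simp only [map_mul]
    simp only [rel, ψ0, map_sub, map_sum, map_mul, map_one, eval₂Hom_C, eval₂Hom_X', RingHom.coe_comp, Function.comp_apply, img,
      Option.elim, mul_add, mul_sub, Finset.sum_add_distrib, Finset.sum_sub_distrib]
    change ∑ x, C (φ (f x)) * C (b x) + (∑ x, C (φ (f x)) * (X ⟨x⟩ : P) - ∑ x, C (φ (f x)) * (G * C (b x))) - 1 = 0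
    rw [h2]
    have h3 : ∑ i, C (φ (f i)) * (G * C (b i)) = G * (∑ i, C (φ (f i)) * C (b i) : P) := by
      rw [Finset.mul_sum]
      exact Finset.sum_congr rfl fun i _ => by ring
    rw [h3, h2]
    simp [G]
  let ψ : Q f →+* P := Ideal.Quotient.lift _ ψ0 fun x hx => by
    obtain ⟨y, rfl⟩ := Ideal.mem_span_singleton'.1 hx
    rw [map_mul, hψ0, mul_zero]
  have hψA : ∀ a, ψ (algebraMap A (Q f) a) = C (φ a) := fun a => by
    show ψ0 (C a) = _
    simp [ψ0]
    rfl
  have hψX : ∀ o, ψ (Ideal.Quotient.mk _ (X o)) = img o := fun o => by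
    show ψ0 (X o) = _
    simp [ψ0]
  have w : CommRingCat.ofHom φ ≫ CommRingCat.ofHom (C : B →+* P) =
      CommRingCat.ofHom (algebraMap A (Q f)) ≫ CommRingCat.ofHom ψ := by
    exact CommRingCat.hom_ext (RingHom.ext fun a => (hψA a).symm)
  let xi : ∀ {R : Type u} [CommRing R], (B →+* R) → (Q f →+* R) → ULift.{u} (Fin m) → R :=
    fun u v i => v (Ideal.Quotient.mk _ (X (some i.down))) - u (b i.down) +
      v (Ideal.Quotient.mk _ (X none)) * u (b i.down)
  refine ⟨ψ, ⟨w⟩, ⟨PushoutCocone.IsColimit.mk w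
    (fun s => CommRingCat.ofHom (eval₂Hom s.inl.hom (xi s.inl.hom s.inr.hom))) (fun s => ?_) (fun s => ?_)
    (fun s d h1 h2 => ?_)⟩⟩
  · ext x
    simp
  · have hc : ∀ a, s.inl.hom (φ a) = s.inr.hom (algebraMap A (Q f) a) := fun a =>
      ConcreteCategory.congr_hom s.condition a
    have hG : eval₂Hom s.inl.hom (xi s.inl.hom s.inr.hom) G = s.inr.hom (Ideal.Quotient.mk _ (X none)) := by
      simp only [G, map_sum, map_mul, eval₂Hom_C, eval₂Hom_X', xi, mul_add, mul_sub, Finset.sum_add_distrib,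
        Finset.sum_sub_distrib]
      have e1 : ∑ i, s.inl.hom (φ (f i)) * s.inr.hom (Ideal.Quotient.mk _ (X (some i))) = 1 := by
        simp only [hc, ← map_mul, ← map_sum, sum_mk, map_one]
      have e2 : ∑ i, s.inl.hom (φ (f i)) * s.inl.hom (b i) = 1 := by simp only [← map_mul, ← map_sum, hb, map_one]
      have e3 : ∑ i, s.inl.hom (φ (f i)) * (s.inr.hom (Ideal.Quotient.mk _ (X none)) * s.inl.hom (b i)) =
          s.inr.hom (Ideal.Quotient.mk _ (X none)) := by
        conv_rhs => rw [← mul_one (s.inr.hom (Ideal.Quotient.mk _ (X none))), ← e2, Finset.mul_sum]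
        exact Finset.sum_congr rfl fun i _ => by ring
      rw [e1, e2, e3]
      ring
    refine CommRingCat.hom_ext (Ideal.Quotient.ringHom_ext (MvPolynomial.ringHom_ext (fun a => ?_) fun o => ?_))
    · show eval₂Hom s.inl.hom (xi s.inl.hom s.inr.hom) (ψ (algebraMap A (Q f) a)) = s.inr.hom (algebraMap A (Q f) a)
      rw [hψA, eval₂Hom_C, hc]
    · show eval₂Hom s.inl.hom (xi s.inl.hom s.inr.hom) (ψ (Ideal.Quotient.mk _ (X o))) =
        s.inr.hom (Ideal.Quotient.mk _ (X o))
      rw [hψX]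
      cases o with
      | none => exact hG
      | some i =>
        simp only [img, Option.elim, map_add, map_sub, map_mul, eval₂Hom_C, hG, eval₂Hom_X', xi]
        ring
  · refine CommRingCat.hom_ext (MvPolynomial.ringHom_ext (fun a => ?_) fun i => ?_)
    · show d.hom (C a) = eval₂Hom _ _ (C a)
      rw [eval₂Hom_C]
      exact ConcreteCategory.congr_hom h1 a
    · show d.hom (X i) = eval₂Hom _ _ (X i)
      rw [eval₂Hom_X']
      have k1 : ∀ x, d.hom (C x) = s.inl.hom x := fun x => ConcreteCategory.congr_hom h1 x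
      have k2 : ∀ x, d.hom (ψ x) = s.inr.hom x := fun x => ConcreteCategory.congr_hom h2 x
      have e : (X i : P) = ψ (Ideal.Quotient.mk _ (X (some i.down))) - C (b i.down) +
          ψ (Ideal.Quotient.mk _ (X none)) * C (b i.down) := by
        rw [hψX, hψX]
        simp only [img, Option.elim]
        ring
      conv_lhs => rw [e]
      simp only [map_add, map_sub, map_mul, k1, k2, xi]

/-- The affine torsor of a quasi-affine scheme. -/
theorem exists_torsor (X : Scheme.{u}) [X.IsQuasiAffine] :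
    ∃ (n : ℕ) (T : Scheme.{u}) (_ : IsAffine T) (p : T ⟶ X),
      ∀ (X' : Scheme.{u}) [IsAffine X'] (g : X' ⟶ X),
        ∃ e : Limits.pullback g p ≅ 𝔸(ULift.{u} (Fin n); X'),
          e.hom ≫ (𝔸(ULift.{u} (Fin n); X') ↘ X') = Limits.pullback.fst g p := by
  let j := X.toSpecΓ
  have hc : IsCompact (Set.range j.base) := isCompact_range j.continuous
  obtain ⟨t, ht⟩ := hc.elim_finite_subcover
    (fun r : {r : Γ(X, ⊤) // (PrimeSpectrum.basicOpen r : Set (PrimeSpectrum Γ(X, ⊤))) ⊆ Set.range j.base} =>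
      (PrimeSpectrum.basicOpen r.1 : Set (PrimeSpectrum Γ(X, ⊤)))) (fun r => (PrimeSpectrum.basicOpen r.1).isOpen)
    (fun y hy => by
      obtain ⟨_, ⟨r, rfl⟩, hyr, hr⟩ := PrimeSpectrum.isTopologicalBasis_basic_opens.exists_subset_of_mem_open hy
        j.isOpenEmbedding.isOpen_range
      exact Set.mem_iUnion.2 ⟨⟨r, hr⟩, hyr⟩)
  let e := t.equivFin
  let m := t.card
  let f : Fin m → Γ(X, ⊤) := fun i => (e.symm i).1.1
  have hcov : ∀ y ∈ Set.range j.base, ∃ i, f i ∉ (y : PrimeSpectrum Γ(X, ⊤)).asIdeal := fun y hy => by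
    obtain ⟨r, hr, hyr⟩ := Set.mem_iUnion₂.1 (ht hy)
    exact ⟨e ⟨r, hr⟩, by simp only [f, Equiv.symm_apply_apply]; exact hyr⟩
  let A := Γ(X, ⊤)
  let π : Spec (CommRingCat.of (Q f)) ⟶ Spec A := Spec.map (CommRingCat.ofHom (algebraMap A (Q f)))
  have hπ : Set.range π.base ⊆ Set.range j.base := by
    rintro _ ⟨q, rfl⟩
    obtain ⟨i, hi⟩ := exists_notMem f q
    exact (e.symm i).1.2 hi
  let p : Spec (CommRingCat.of (Q f)) ⟶ X := IsOpenImmersion.lift j π hπ
  have hpj : p ≫ j = π := IsOpenImmersion.lift_fac j π hπ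
  refine ⟨m, Spec (CommRingCat.of (Q f)), inferInstance, p, fun X' _ g => ?_⟩
  let φ : A →+* Γ(X', ⊤) := g.appTop.hom
  have hgj : g ≫ j = X'.isoSpec.hom ≫ Spec.map g.appTop := Scheme.toSpecΓ_naturality g
  have htop : Ideal.span (Set.range fun i => φ (f i)) = ⊤ := by
    by_contra h
    obtain ⟨M, hM, hle⟩ := Ideal.exists_le_maximal _ h
    let y : PrimeSpectrum Γ(X', ⊤) := ⟨M, hM.isPrime⟩
    obtain ⟨i, hi⟩ := hcov ((Spec.map g.appTop).base y) ⟨g.base (X'.isoSpec.inv.base y), by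
      rw [← Scheme.Hom.comp_apply, ← Scheme.Hom.comp_apply, hgj, Iso.inv_hom_id_assoc]⟩
    exact hi (hle (Ideal.subset_span ⟨i, rfl⟩))
  obtain ⟨c, hc'⟩ := Ideal.mem_span_range_iff_exists_fun.1 (htop.symm ▸ Submodule.mem_top : (1 : Γ(X', ⊤)) ∈ _)
  obtain ⟨ψ, hψ⟩ := exists_isPushout f φ c (by rw [← hc']; exact Finset.sum_congr rfl fun i _ => mul_comm _ _)
  let a : Spec (CommRingCat.of (MvPolynomial (ULift.{u} (Fin m)) Γ(X', ⊤))) ⟶ X' :=
    Spec.map (CommRingCat.ofHom C) ≫ X'.isoSpec.inv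
  let b : Spec (CommRingCat.of (MvPolynomial (ULift.{u} (Fin m)) Γ(X', ⊤))) ⟶ Spec (CommRingCat.of (Q f)) :=
    Spec.map (CommRingCat.ofHom ψ)
  have hbig : IsPullback a b (g ≫ j) (p ≫ j) := by
    rw [hpj, hgj]
    exact (isPullback_SpecMap_of_isPushout _ _ _ _ hψ).of_iso (Iso.refl _) X'.isoSpec.symm (Iso.refl _) (Iso.refl _)
      (by simp [a]) (by simp [b]) (by simp [φ]) (by simp [π]; rfl)
  have w : a ≫ g = b ≫ p := by
    rw [← cancel_mono j, Category.assoc, Category.assoc]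
    exact hbig.w
  have hpb : IsPullback a b g p := ⟨⟨w⟩, ⟨PullbackCone.IsLimit.mk w
    (fun s => hbig.lift s.fst s.snd (by rw [reassoc_of% s.condition]))
    (fun s => hbig.lift_fst _ _ _) (fun s => hbig.lift_snd _ _ _)
    (fun s d h1 h2 => hbig.hom_ext (by rw [h1, hbig.lift_fst]) (by rw [h2, hbig.lift_snd]))⟩⟩
  refine ⟨hpb.isoPullback.symm ≪≫ (AffineSpace.isoOfIsAffine (ULift.{u} (Fin m)) X').symm, ?_⟩
  simp only [Iso.trans_hom, Iso.symm_hom, Category.assoc, AffineSpace.isoOfIsAffine_inv_over]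
  exact hpb.isoPullback_inv_fst

end GrothLib.Jouanolou8
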